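/-
Frobenius' theorem: the number of subgroups of a given prime power order dividing `|G|` is `≡ 1 [MOD p]`
(Wielandt's orbit count on subsets, compared with the cyclic group).
* `card_subgroup_prime_pow_modEq_one`
* `card_normal_subgroup_prime_pow_modEq_one` : the same for normal subgroups of a `p`-group
-/
import Cfsg.Agent.EqLemmas

open scoped Pointwise

namespace Cfsg.Agent.SubgroupCount

theorem dvd_card_of_dvd_orbit {A X : Type*} [Group A] [MulAction A X] [Finite X] {d : ℕ}
    (h : ∀ x : X, d ∣ Nat.card (MulAction.orbit A x)) : d ∣ Nat.card X := by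
  classical
  haveI : Fintype (MulAction.orbitRel.Quotient A X) := Fintype.ofFinite _
  rw [Nat.card_congr (MulAction.selfEquivSigmaOrbits' A X), Nat.card_sigma]
  refine Finset.dvd_sum (fun ω _ => ?_)
  induction ω using Quotient.inductionOn' with
  | h x => rw [MulAction.orbitRel.Quotient.orbit_mk]; exact h x

variable (G : Type*) [Group G] [Finite G] [DecidableEq G]

/-- subsets of size `k` -/
abbrev Sub (k : ℕ) : Type _ := {S : Finset G // S.card = k}

instance instSubAction (k : ℕ) : MulAction G (Sub G k) where
  smul g S := ⟨g • S.1, by rw [Finset.card_smul_finset]; exact S.2⟩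
  one_smul S := Subtype.ext (one_smul G S.1)
  mul_smul g h S := Subtype.ext (mul_smul g h S.1)

variable {G}

theorem smul_val {k : ℕ} (g : G) (S : Sub G k) : (g • S).1 = g • S.1 := rfl

theorem stab_card_dvd {k : ℕ} (S : Sub G k) : Nat.card (MulAction.stabilizer G S) ∣ k := by
  set H := MulAction.stabilizer G S
  have hmem : ∀ (h : H) (x : {x // x ∈ S.1}), (h : G) * x.1 ∈ S.1 := by
    intro h x
    have h2 : (h : G) • x.1 ∈ (h : G) • S.1 := Finset.smul_mem_smul_finset x.2
    rwa [← smul_val, MulAction.mem_stabilizer_iff.mp h.2] at h2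
  letI : MulAction H {x // x ∈ S.1} :=
    { smul := fun h x => ⟨(h : G) * x.1, hmem h x⟩
      one_smul := fun x => Subtype.ext (one_mul x.1)
      mul_smul := fun g h x => Subtype.ext (mul_assoc (g : G) h x.1) }
  have := dvd_card_of_dvd_orbit (A := H) (X := {x // x ∈ S.1}) (d := Nat.card H) (fun x => by
    have hs : MulAction.stabilizer H x = ⊥ := by
      rw [eq_bot_iff]
      intro h hh
      have h1 : (h : G) * x.1 = x.1 := congrArg Subtype.val (MulAction.mem_stabilizer_iff.mp hh)
      exact Subgroup.mem_bot.mpr (Subtype.ext (mul_eq_right.mp h1))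
    rw [Nat.card_congr (MulAction.orbitEquivQuotientStabilizer H x), hs,
      Nat.card_congr (QuotientGroup.quotientBot).toEquiv])
  rwa [Nat.card_eq_fintype_card (α := {x // x ∈ S.1}), Fintype.card_coe, S.2] at this

theorem choose_modEq (G : Type*) [Group G] [Finite G] {p β m : ℕ} (hp : p.Prime)
    (hG : Nat.card G = p ^ β * m) :
    (p ^ β * m).choose (p ^ β) ≡ m * Nat.card {H : Subgroup G // Nat.card H = p ^ β} [MOD p * m] := by
  classical
  letI := Fintype.ofFinite G
  set k := p ^ β
  have hk : 0 < k := pow_pos hp.pos β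
  let Good : Sub G k → Prop := fun S => Nat.card (MulAction.stabilizer G S) = k
  have htot : Nat.card (Sub G k) = (k * m).choose k := by
    rw [Nat.card_eq_fintype_card, Fintype.card_finset_len, ← Nat.card_eq_fintype_card, hG]
  have hsplit : Nat.card (Sub G k) =
      Nat.card {S // Good S} + Nat.card {S // ¬ Good S} := by
    rw [← Nat.card_sum]
    exact Nat.card_congr (Equiv.sumCompl Good).symm
  have hbad : p * m ∣ Nat.card {S // ¬ Good S} := by
    have hinv : ∀ (g : G) (S : Sub G k), ¬ Good S → ¬ Good (g • S) := by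
      intro g S hS
      have h : MulAction.stabilizer G (g • S) = (MulAction.stabilizer G S).map (MulAut.conj g).toMonoidHom :=
        MulAction.stabilizer_smul_eq_stabilizer_map_conj g S
      simp only [Good, h] at hS ⊢
      rwa [Subgroup.card_map_of_injective (MulEquiv.injective _)]
    letI : MulAction G {S : Sub G k // ¬ Good S} :=
      { smul := fun g S => ⟨g • S.1, hinv g S.1 S.2⟩
        one_smul := fun S => Subtype.ext (one_smul G S.1)
        mul_smul := fun g h S => Subtype.ext (mul_smul g h S.1) }
    refine dvd_card_of_dvd_orbit (A := G) (fun S => ?_)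
    have hst : MulAction.stabilizer G S = MulAction.stabilizer G S.1 := by
      ext g
      rw [MulAction.mem_stabilizer_iff, MulAction.mem_stabilizer_iff, Subtype.ext_iff]
      rfl
    rw [Nat.card_congr (MulAction.orbitEquivQuotientStabilizer G S), hst, ← Subgroup.index_eq_card]
    obtain ⟨j, hj, hjc⟩ := (Nat.dvd_prime_pow hp).mp (stab_card_dvd S.1)
    have hj' : j < β := lt_of_le_of_ne hj (fun e => S.2 (by show _ = k; rw [hjc, e]))
    obtain ⟨d, hd⟩ : ∃ d, β = j + (d + 1) := ⟨β - j - 1, by omega⟩
    have hi := (MulAction.stabilizer G S.1).card_mul_index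
    rw [hjc, hG] at hi
    have hi2 : (MulAction.stabilizer G S.1).index = p ^ (d + 1) * m := by
      refine Nat.eq_of_mul_eq_mul_left (pow_pos hp.pos j) ?_
      rw [hi]
      show p ^ β * m = _
      rw [hd, pow_add, mul_assoc]
    rw [hi2]
    exact Nat.mul_dvd_mul_right (dvd_pow_self p (by omega)) m
  have hfib : ∀ H : {H : Subgroup G // Nat.card H = k},
      Nat.card {S : {S // Good S} // (⟨MulAction.stabilizer G S.1, S.2⟩ : {H : Subgroup G // Nat.card H = k}) = H} = m := by
    rintro ⟨H, hH⟩
    let emb : G → Sub G k := fun g => ⟨(Finset.univ.filter (fun x => x ∈ H)).map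
      (mulRightEmbedding g), by
        rw [Finset.card_map, ← Fintype.card_subtype, ← Nat.card_eq_fintype_card]; exact hH⟩
    have hemb : ∀ g x, x ∈ (emb g).1 ↔ x * g⁻¹ ∈ H := by
      intro g x
      simp only [emb, Finset.mem_map, Finset.mem_filter, Finset.mem_univ, true_and, mulRightEmbedding_apply]
      exact ⟨fun ⟨a, ha, e⟩ => by rw [← e, mul_inv_cancel_right]; exact ha, fun h => ⟨_, h, by group⟩⟩
    have hstab : ∀ g, MulAction.stabilizer G (emb g) = H := by
      intro g
      ext a
      rw [MulAction.mem_stabilizer_iff, Subtype.ext_iff, smul_val]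
      constructor
      · intro h
        have h1 : a • g ∈ a • (emb g).1 := Finset.smul_mem_smul_finset ((hemb g g).mpr (by simp [H.one_mem]))
        rw [h, hemb] at h1
        simpa using h1
      · intro ha
        ext x
        rw [← Finset.inv_smul_mem_iff, hemb, hemb, smul_eq_mul, mul_assoc]
        exact H.mul_mem_cancel_left (H.inv_mem ha)
    let F : G ⧸ H → {S : {S // Good S} // (⟨MulAction.stabilizer G S.1, S.2⟩ : {H : Subgroup G // Nat.card H = k}) = ⟨H, hH⟩} :=
      fun q => ⟨⟨emb q.out⁻¹, by show Nat.card _ = k; rw [hstab]; exact hH⟩, Subtype.ext (hstab _)⟩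
    have hF : Function.Bijective F := by
      constructor
      · intro q q' h
        have h1 : emb q.out⁻¹ = emb q'.out⁻¹ := congrArg (fun T => T.1.1) h
        have h2 : q'.out⁻¹ ∈ (emb q.out⁻¹).1 := by rw [h1, hemb]; simp [H.one_mem]
        rw [hemb, inv_inv] at h2
        rw [← q.out_eq', ← q'.out_eq']
        exact (QuotientGroup.eq.mpr h2).symm
      · rintro ⟨⟨S, hS⟩, hSH⟩
        have hSH' : MulAction.stabilizer G S = H := congrArg Subtype.val hSH
        obtain ⟨s, hs⟩ : S.1.Nonempty := Finset.card_pos.mp (by rw [S.2]; exact hk)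
        refine ⟨QuotientGroup.mk s⁻¹, ?_⟩
        apply Subtype.ext
        apply Subtype.ext
        refine Subtype.ext (Finset.eq_of_subset_of_card_le ?_ (le_of_eq ?_))
        swap
        · exact S.2.trans (emb _).2.symm
        intro x hx
        rw [hemb, inv_inv] at hx
        obtain ⟨h0, hh0⟩ := QuotientGroup.mk_out_eq_mul H s⁻¹
        rw [hh0] at hx
        have hxs : x * s⁻¹ ∈ H := by
          have := H.mul_mem hx (H.inv_mem h0.2)
          simpa [mul_assoc] using this
        rw [← hSH', MulAction.mem_stabilizer_iff, Subtype.ext_iff, smul_val] at hxs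
        have h3 : (x * s⁻¹) • s ∈ (x * s⁻¹) • S.1 := Finset.smul_mem_smul_finset hs
        rw [hxs] at h3
        simpa using h3
    rw [← Nat.card_eq_of_bijective F hF, ← Subgroup.index_eq_card]
    have := H.card_mul_index
    rw [hH, hG] at this
    exact Nat.eq_of_mul_eq_mul_left hk this
  have hgood : Nat.card {S // Good S} = m * Nat.card {H : Subgroup G // Nat.card H = k} := by
    rw [← Nat.card_congr (Equiv.sigmaFiberEquiv (fun S : {S // Good S} =>
      (⟨MulAction.stabilizer G S.1, S.2⟩ : {H : Subgroup G // Nat.card H = k}))), Nat.card_sigma]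
    rw [Finset.sum_congr rfl (fun H _ => hfib H), Finset.sum_const, Finset.card_univ, smul_eq_mul,
      ← Nat.card_eq_fintype_card, mul_comm]
  rw [← htot, hsplit, hgood]
  calc _ ≡ m * Nat.card {H : Subgroup G // Nat.card H = k} + 0 [MOD p * m] :=
        Nat.ModEq.add_left _ (Nat.modEq_zero_iff_dvd.mpr hbad)
    _ = _ := add_zero _

/-- Frobenius: the number of subgroups of prime power order `p ^ β ∣ |G|` is `≡ 1 [MOD p]`. -/
theorem card_subgroup_prime_pow_modEq_one {G : Type*} [Group G] [Finite G] {p β : ℕ} (hp : p.Prime)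
    (hdiv : p ^ β ∣ Nat.card G) : Nat.card {H : Subgroup G // Nat.card H = p ^ β} ≡ 1 [MOD p] := by
  obtain ⟨m, hm⟩ := hdiv
  have hm0 : m ≠ 0 := by rintro rfl; exact Nat.card_pos.ne' (hm.trans (mul_zero _))
  haveI : NeZero (p ^ β * m) := ⟨mul_ne_zero (pow_ne_zero _ hp.ne_zero) hm0⟩
  let C := Multiplicative (ZMod (p ^ β * m))
  have hC : Nat.card C = p ^ β * m := (Nat.card_congr Multiplicative.toAdd).trans (Nat.card_zmod _)
  have hone : Nat.card {H : Subgroup C // Nat.card H = p ^ β} = 1 := by
    classical
    letI := Fintype.ofFinite C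
    rw [Nat.card_eq_one_iff_unique]
    obtain ⟨g, hg⟩ := IsCyclic.exists_generator (α := C)
    refine ⟨⟨fun H K => Subtype.ext ?_⟩, ?_⟩
    · have key : ∀ L : Subgroup C, Nat.card L = p ^ β →
          Finset.univ.filter (fun a => a ∈ L) = Finset.univ.filter (fun a : C => a ^ (p ^ β) = 1) := by
        intro L hL
        refine Finset.eq_of_subset_of_card_le (fun a ha => ?_) ?_
        · simp only [Finset.mem_filter, Finset.mem_univ, true_and] at ha ⊢
          have h1 : a ^ Nat.card L = 1 := congrArg Subtype.val (pow_card_eq_one' (x := (⟨a, ha⟩ : L)))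
          simpa only [hL] using h1
        · refine (IsCyclic.card_pow_eq_one_le (pow_pos hp.pos β)).trans ?_
          rw [← Fintype.card_subtype, ← Nat.card_eq_fintype_card]
          exact hL.ge
      ext a
      have := congrArg (fun T : Finset C => a ∈ T) ((key H.1 H.2).trans (key K.1 K.2).symm)
      simpa using this
    · refine ⟨⟨Subgroup.zpowers (g ^ m), ?_⟩⟩
      have hgo : orderOf g = p ^ β * m := by rw [orderOf_eq_card_of_forall_mem_zpowers hg, hC]
      rw [Nat.card_zpowers, orderOf_pow, hgo, Nat.gcd_mul_left_left, Nat.mul_div_left _ (Nat.pos_of_ne_zero hm0)]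
  have h1 := choose_modEq C hp hC
  rw [hone] at h1
  have h2 := (choose_modEq G hp hm).symm.trans h1
  rw [mul_comm p m] at h2
  exact Nat.ModEq.mul_left_cancel' hm0 h2

theorem card_normal_subgroup_prime_pow_modEq_one {G : Type*} [Group G] [Finite G] {p m s : ℕ} (hp : p.Prime)
    (hG : Nat.card G = p ^ m) (hs : s ≤ m) :
    Nat.card {H : Subgroup G // H.Normal ∧ Nat.card H = p ^ s} ≡ 1 [MOD p] := by
  haveI := Fact.mk hp
  let X := {H : Subgroup G // Nat.card H = p ^ s}
  letI : MulAction (ConjAct G) X :=
    { smul := fun g H => ⟨H.1.map (MulAut.conj (ConjAct.ofConjAct g)).toMonoidHom, by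
        rw [Subgroup.card_map_of_injective (MulEquiv.injective _)]; exact H.2⟩
      one_smul := fun H => Subtype.ext (by
        show Subgroup.map _ _ = _
        ext x
        simp)
      mul_smul := fun g h H => Subtype.ext (by
        show Subgroup.map _ _ = Subgroup.map _ (Subgroup.map _ _)
        rw [Subgroup.map_map]
        congr 1
        ext x
        simp [mul_assoc]) }
  have hpg : IsPGroup p (ConjAct G) := IsPGroup.of_card (n := m) hG
  have h1 := hpg.card_modEq_card_fixedPoints X
  have h2 : Nat.card (MulAction.fixedPoints (ConjAct G) X) = Nat.card {H : Subgroup G // H.Normal ∧ Nat.card H = p ^ s} := by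
    refine Nat.card_congr
      { toFun := fun H => ⟨H.1.1, ⟨fun x hx a => ?_⟩, H.1.2⟩
        invFun := fun H => ⟨⟨H.1, H.2.2⟩, fun g => Subtype.ext ?_⟩
        left_inv := fun H => rfl
        right_inv := fun H => rfl }
    · have h := congrArg Subtype.val (H.2 (ConjAct.toConjAct a))
      change H.1.1.map (MulAut.conj a).toMonoidHom = H.1.1 at h
      rw [← h]
      exact ⟨x, hx, rfl⟩
    · show H.1.map (MulAut.conj (ConjAct.ofConjAct g)).toMonoidHom = H.1
      refine Subgroup.eq_of_le_of_card_ge ?_ ?_
      · rintro _ ⟨x, hx, rfl⟩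
        exact H.2.1.conj_mem x hx _
      · rw [Subgroup.card_map_of_injective (MulEquiv.injective _)]
  rw [h2] at h1
  exact h1.symm.trans (card_subgroup_prime_pow_modEq_one hp (hG ▸ pow_dvd_pow p hs))

end Cfsg.Agent.SubgroupCount
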